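import Groth.Agent.Lib.Altitude.Basic
import Groth.Agent.Lib.CMLocus.Basic
import Groth.Agent.Lib.FibPd.Depth
import Groth.Agent.Lib.DCxRing.Regular
import Groth.Agent.Lib.Depth.Local
import Mathlib

/-!
# Rectified depth over quotients of polynomial rings over equidimensional Jacobson regular rings
-/

set_option autoImplicit false
set_option linter.style.haveILetI false

universe u

open IsLocalRing TensorProduct Topology

namespace GrothLib.RectDepth5

/-- Quotient of a polynomial ring over a regular Jacobson ring whose maximal ideals have constant height. -/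
def Good (A : Type u) [CommRing A] : Prop :=
  ∃ (R : Type u) (_ : CommRing R) (_ : IsRegularRing R) (_ : IsJacobsonRing R) (D N : ℕ)
    (π : MvPolynomial (Fin N) R →+* A), Function.Surjective π ∧ ∀ n : Ideal R, n.IsMaximal → n.height = D

/-- Depth at a prime. -/
noncomputable abbrev dp {A : Type u} [CommRing A] (M : Type u) [AddCommGroup M] [Module A M]
    (q : PrimeSpectrum A) : ℕ∞ :=
  LocCoh.depth (Localization.AtPrime q.asIdeal) (LocalizedModule q.asIdeal.primeCompl M)

theorem height_maximal {R : Type u} [CommRing R] [IsRegularRing R] [IsJacobsonRing R] {D N : ℕ}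
    (hD : ∀ n : Ideal R, n.IsMaximal → n.height = D) (m : Ideal (MvPolynomial (Fin N) R)) [m.IsMaximal] :
    m.height = ((D + N : ℕ) : ℕ∞) := by
  let n := m.under R
  have hint := MvPolynomial.quotient_mk_comp_C_isIntegral_of_isJacobsonRing m
  haveI hn : n.IsMaximal := by
    haveI : (⊥ : Ideal (MvPolynomial (Fin N) R ⧸ m)).IsMaximal := by
      letI := Ideal.Quotient.field m
      exact Ideal.bot_isMaximal
    have h2 := Ideal.isMaximal_comap_of_isIntegral_of_isMaximal'
      ((Ideal.Quotient.mk m).comp MvPolynomial.C) hint (⊥ : Ideal (MvPolynomial (Fin N) R ⧸ m))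
    rw [← Ideal.comap_comap, ← RingHom.ker_eq_comap_bot, Ideal.mk_ker] at h2
    exact h2
  haveI : m.LiesOver n := ⟨rfl⟩
  haveI : Algebra.IsIntegral (R ⧸ n) (MvPolynomial (Fin N) R ⧸ m) := ⟨fun x =>
    RingHom.isIntegralElem.of_comp (Ideal.Quotient.mk n) (algebraMap (R ⧸ n) (MvPolynomial (Fin N) R ⧸ m))
      (hint x)⟩
  obtain ⟨s, hs, hh⟩ := GrothLib.Altitude.height_add_trdeg_mvPolynomial n m
  rw [trdeg_eq_zero] at hs
  have hs0 : s = 0 := by exact_mod_cast hs.symm
  subst hs0
  rw [Nat.cast_zero, add_zero, hD n hn] at hh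
  rw [hh, Nat.cast_add]

/-- The data attached to a prime of a good ring: the height upstairs, and the common height of the closed points. -/
theorem exists_dim {R : Type u} [CommRing R] [IsRegularRing R] [IsJacobsonRing R] {D N : ℕ}
    (hD : ∀ n : Ideal R, n.IsMaximal → n.height = D) {A : Type u} [CommRing A]
    (π : MvPolynomial (Fin N) R →+* A) (hπ : Function.Surjective π) (q : PrimeSpectrum A) :
    ∃ E : ℕ, (q.asIdeal.comap π).height + E = ((D + N : ℕ) : ℕ∞) ∧
      ∀ f : A, f ∉ q.asIdeal → topologicalKrullDim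
        ↥(PrimeSpectrum.zeroLocus (q.asIdeal : Set A) ∩ (PrimeSpectrum.basicOpen f : Set (PrimeSpectrum A))) = E := by
  haveI : LocCoh.IsCohenMacaulayRing (MvPolynomial (Fin N) R) := GrothLib.CatCM.isCohenMacaulayRing_of_isRegularRing _
  let Q := q.asIdeal.comap π
  let χ : MvPolynomial (Fin N) R →+* A ⧸ q.asIdeal := (Ideal.Quotient.mk _).comp π
  have hχ : Function.Surjective χ := Ideal.Quotient.mk_surjective.comp hπ
  have hker : RingHom.ker χ = Q := by rw [← RingHom.comap_ker, Ideal.mk_ker]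
  haveI : IsJacobsonRing A := isJacobsonRing_of_surjective ⟨π, hπ⟩
  haveI : IsNoetherianRing A := isNoetherianRing_of_surjective _ A π hπ
  -- the formula at maximal ideals
  have key : ∀ M : Ideal (A ⧸ q.asIdeal), M.IsMaximal → Q.height + M.height = ((D + N : ℕ) : ℕ∞) := by
    intro M hM
    haveI : (M.comap χ).IsMaximal := Ideal.comap_isMaximal_of_surjective χ hχ
    rw [← height_maximal hD (M.comap χ)]
    refine le_antisymm ?_ ?_
    · obtain ⟨c, hc⟩ := ENat.ne_top_iff_exists.1 (Ideal.height_ne_top (I := Q) Ideal.IsPrime.ne_top')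
      rw [← hc]
      exact GrothLib.CMLocus.add_height_le χ hχ M c fun p _ hp _ => hc.le.trans (Ideal.height_mono (hker ▸ hp))
    · refine GrothLib.CMLocus.height_le_add χ hχ M Q hker.le ?_
      intro x hx
      rw [Ideal.mem_comap, show χ x = 0 from RingHom.mem_ker.1 (hker ▸ hx)]
      exact zero_mem _
  obtain ⟨M₀, hM₀⟩ := Ideal.exists_maximal (A ⧸ q.asIdeal)
  obtain ⟨E, hE⟩ : ∃ E : ℕ, M₀.height = E := by
    obtain ⟨E, hE⟩ := ENat.ne_top_iff_exists.1 (Ideal.height_ne_top (I := M₀) hM₀.ne_top)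
    exact ⟨E, hE.symm⟩
  obtain ⟨c, hc⟩ := ENat.ne_top_iff_exists.1 (Ideal.height_ne_top (I := Q) Ideal.IsPrime.ne_top')
  have hEq : ∀ M : Ideal (A ⧸ q.asIdeal), M.IsMaximal → M.height = E := by
    intro M hM
    have h1 := key M hM
    rw [← key M₀ hM₀, ← hc, hE] at h1
    exact (ENat.addLECancellable_natCast c).inj.1 h1
  refine ⟨E, hE ▸ key M₀ hM₀, fun f hf => le_antisymm ?_ ?_⟩
  · refine le_trans (Topology.IsInducing.topologicalKrullDim_le
      (f := Set.inclusion (Set.inter_subset_left (s := PrimeSpectrum.zeroLocus (q.asIdeal : Set A))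
        (t := (PrimeSpectrum.basicOpen f : Set (PrimeSpectrum A))))) (IsEmbedding.inclusion _).isInducing) ?_
    have hemb : IsEmbedding (PrimeSpectrum.comap (Ideal.Quotient.mk q.asIdeal)) :=
      (PrimeSpectrum.isClosedEmbedding_comap_of_surjective _ _ Ideal.Quotient.mk_surjective).isEmbedding
    rw [← GrothLib.Dim.IsEmbedding.topologicalKrullDim_eq hemb
      (S := PrimeSpectrum.zeroLocus (q.asIdeal : Set A)) (by
        rw [range_comap_of_surjective _ _ Ideal.Quotient.mk_surjective, Ideal.mk_ker]),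
      PrimeSpectrum.topologicalKrullDim_eq_ringKrullDim, ringKrullDim_le_iff_isMaximal_height_le]
    intro M hM
    rw [hEq M hM]
    exact le_rfl
  · obtain ⟨M, hM, hfM⟩ : ∃ M : Ideal (A ⧸ q.asIdeal), M.IsMaximal ∧ Ideal.Quotient.mk _ f ∉ M := by
      by_contra hcon
      push Not at hcon
      refine hf (Ideal.Quotient.eq_zero_iff_mem.1 ?_)
      have h1 : Ideal.Quotient.mk q.asIdeal f ∈ (⊥ : Ideal (A ⧸ q.asIdeal)).jacobson :=
        Ideal.mem_sInf.2 fun {J} hJ => hcon J hJ.2
      rw [IsJacobsonRing.out' ⊥ (Ideal.IsPrime.isRadical Ideal.isPrime_bot)] at h1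
      exact h1
    let g : PrimeSpectrum (Localization.AtPrime M) → PrimeSpectrum A :=
      PrimeSpectrum.comap (Ideal.Quotient.mk q.asIdeal) ∘ PrimeSpectrum.comap (algebraMap (A ⧸ q.asIdeal) _)
    have hg : IsEmbedding g :=
      (PrimeSpectrum.isClosedEmbedding_comap_of_surjective _ _ Ideal.Quotient.mk_surjective).isEmbedding.comp
        (PrimeSpectrum.localization_comap_isEmbedding (Localization.AtPrime M) M.primeCompl)
    have hmem : ∀ p, g p ∈ PrimeSpectrum.zeroLocus (q.asIdeal : Set A) ∩ (PrimeSpectrum.basicOpen f : Set (PrimeSpectrum A)) := by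
      intro p
      refine ⟨fun x hx => ?_, fun hfp => hfM ?_⟩
      · show algebraMap (A ⧸ q.asIdeal) (Localization.AtPrime M) (Ideal.Quotient.mk _ x) ∈ p.asIdeal
        rw [Ideal.Quotient.eq_zero_iff_mem.2 hx, map_zero]
        exact zero_mem _
      · have h1 : p.asIdeal ≤ maximalIdeal (Localization.AtPrime M) := le_maximalIdeal p.2.ne_top
        exact (IsLocalization.AtPrime.to_map_mem_maximal_iff (Localization.AtPrime M) M _).1 (h1 hfp)
    have h := Topology.IsInducing.topologicalKrullDim_le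
      (f := Set.codRestrict g _ hmem) (hg.codRestrict _ hmem).isInducing
    rw [PrimeSpectrum.topologicalKrullDim_eq_ringKrullDim,
      IsLocalization.AtPrime.ringKrullDim_eq_height M (Localization.AtPrime M), hEq M hM] at h
    exact h

section

variable {P A : Type u} [CommRing P] [CommRing A] [Algebra P A]
  (M : Type u) [AddCommGroup M] [Module P M] [Module A M] [IsScalarTower P A M] [Module.Finite A M]

theorem depth_pd [IsRegularRing P] (hπ : Function.Surjective (algebraMap P A)) [Module.Finite P M]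
    (q : PrimeSpectrum A) (hq : q ∈ Module.support A M) :
    ∃ d e : ℕ, dp M q = d ∧ (q.asIdeal.comap (algebraMap P A)).height = ((d + e : ℕ) : ℕ∞) ∧
      ∀ e', GrothLib.Serre.PdLE (Localization.AtPrime (q.asIdeal.comap (algebraMap P A)))
        (Localization.AtPrime (q.asIdeal.comap (algebraMap P A)) ⊗[P] M) e' ↔ e ≤ e' := by
  haveI : IsNoetherianRing A := isNoetherianRing_of_surjective P A (algebraMap P A) hπ
  let Q := q.asIdeal.comap (algebraMap P A)
  haveI : IsRegularLocalRing (Localization.AtPrime Q) := IsRegularRing.isRegularLocalRing_localization Q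
  haveI : Nontrivial (LocalizedModule Q.primeCompl M) := by
    refine (Module.mem_support_iff (p := ⟨Q, inferInstance⟩)).1 ?_
    rw [Module.mem_support_iff'] at hq ⊢
    obtain ⟨m, hm⟩ := hq
    exact ⟨m, fun r hr h => hm (algebraMap P A r) hr (by rwa [algebraMap_smul])⟩
  let ε := LocalizedModule.equivTensorProduct Q.primeCompl M
  haveI : Nontrivial (Localization.AtPrime Q ⊗[P] M) := ε.toEquiv.symm.nontrivial
  obtain ⟨d, e, hdim, hd, he⟩ := GrothLib.FibPd.exists_depth_pd (R := Localization.AtPrime Q)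
    (Localization.AtPrime Q ⊗[P] M)
  refine ⟨d, e, ?_, ?_, he⟩
  · rw [dp, ← GrothLib.Faltings.depth_localization_comap (R := P) (R' := A) (M := M) (M' := M) Q q.asIdeal rfl
      LinearMap.id
      (fun z => ⟨1, (hπ z).choose, Ideal.IsPrime.one_notMem (inferInstance : Q.IsPrime), by rw [one_smul]; exact (hπ z).choose_spec.symm⟩)
      (fun z => ⟨1, z, Ideal.IsPrime.one_notMem (inferInstance : Q.IsPrime), by simp⟩)
      (fun m hm => ⟨1, Ideal.IsPrime.one_notMem (inferInstance : Q.IsPrime), by simpa using hm⟩)]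
    exact (GrothLib.Depth.idealDepth_eq_of_equiv _ ε).trans hd
  · rw [IsLocalization.AtPrime.ringKrullDim_eq_height Q (Localization.AtPrime Q)] at hdim
    exact WithBot.coe_inj.1 hdim

end

variable {A : Type u} [CommRing A] (M : Type u) [AddCommGroup M] [Module A M] [Module.Finite A M]

theorem dp_eq_top {q : PrimeSpectrum A} (hq : q ∉ Module.support A M) : dp M q = ⊤ := by
  haveI : Subsingleton (LocalizedModule q.asIdeal.primeCompl M) := Module.notMem_support_iff.1 hq
  exact GrothLib.Depth.depth_eq_top_of_subsingleton _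

/-- Openness of the rectified depth loci. -/
theorem isOpen_le_dp_add_dim (hA : Good A) (n : ℕ) :
    IsOpen {q : PrimeSpectrum A | (n : WithBot ℕ∞) ≤ (dp M q : WithBot ℕ∞) +
      topologicalKrullDim ↥(PrimeSpectrum.zeroLocus (q.asIdeal : Set A))} := by
  obtain ⟨R, _, _, _, D, N, π, hπ, hD⟩ := hA
  letI := π.toAlgebra
  letI : Module (MvPolynomial (Fin N) R) M := Module.compHom M π
  haveI : IsScalarTower (MvPolynomial (Fin N) R) A M := IsScalarTower.of_algebraMap_smul fun _ _ => rfl
  haveI : Module.Finite (MvPolynomial (Fin N) R) A :=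
    Module.Finite.of_surjective (Algebra.linearMap (MvPolynomial (Fin N) R) A) hπ
  haveI : Module.Finite (MvPolynomial (Fin N) R) M := Module.Finite.trans A M
  have hset : {q : PrimeSpectrum A | (n : WithBot ℕ∞) ≤ (dp M q : WithBot ℕ∞) +
      topologicalKrullDim ↥(PrimeSpectrum.zeroLocus (q.asIdeal : Set A))} =
      (Module.support A M)ᶜ ∪ {q | n ≤ D + N ∧ PrimeSpectrum.comap π q ∈ {p : PrimeSpectrum (MvPolynomial (Fin N) R) |
        GrothLib.Serre.PdLE (Localization.AtPrime p.asIdeal)
          (Localization.AtPrime p.asIdeal ⊗[MvPolynomial (Fin N) R] M) (D + N - n)}} := by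
    ext q
    obtain ⟨E, hE, hdim⟩ := exists_dim hD π hπ q
    have h1 := hdim 1 (Ideal.IsPrime.one_notMem q.2)
    rw [PrimeSpectrum.basicOpen_one, TopologicalSpace.Opens.coe_top, Set.inter_univ] at h1
    simp only [Set.mem_ofPred_eq, Set.mem_union, Set.mem_compl_iff]
    rw [h1]
    by_cases hq : q ∈ Module.support A M
    swap
    · rw [dp_eq_top M hq]
      refine iff_of_true ?_ (Or.inl hq)
      show ((n : ℕ∞) : WithBot ℕ∞) ≤ ((⊤ : ℕ∞) : WithBot ℕ∞) + ((E : ℕ∞) : WithBot ℕ∞)
      rw [← WithBot.coe_add, top_add]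
      exact WithBot.coe_le_coe.2 le_top
    obtain ⟨d, e, hd, hht, he⟩ := depth_pd (P := MvPolynomial (Fin N) R) M hπ q hq
    rw [show (q.asIdeal.comap (algebraMap (MvPolynomial (Fin N) R) A)) = q.asIdeal.comap π from rfl] at hht
    rw [hht] at hE
    have hE' : d + e + E = D + N := by exact_mod_cast hE
    rw [hd]
    show ((n : ℕ∞) : WithBot ℕ∞) ≤ ((d : ℕ∞) : WithBot ℕ∞) + ((E : ℕ∞) : WithBot ℕ∞) ↔ _
    rw [← WithBot.coe_add, WithBot.coe_le_coe, ← Nat.cast_add, Nat.cast_le]
    refine ⟨fun h => Or.inr ⟨by omega, (he _).2 (by omega)⟩, fun h => ?_⟩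
    rcases h with h | ⟨hn, h⟩
    · exact absurd hq h
    · have := (he (D + N - n)).1 h
      omega
  rw [hset]
  refine Module.isClosed_support.isOpen_compl.union ?_
  by_cases hn : n ≤ D + N
  · simp only [hn, true_and]
    exact (GrothLib.DR.isOpen_pdLE_locus (D + N - n) M).preimage (PrimeSpectrum.continuous_comap π)
  · simp only [hn, false_and, Set.ofPred_false, isOpen_empty]

/-- Near a prime the depths at closed points of its closure equal the rectified depth. -/
theorem exists_dp_maximal_eq (hA : Good A) (q : PrimeSpectrum A) :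
    ∃ f : A, f ∉ q.asIdeal ∧ ∀ m : PrimeSpectrum A, m.asIdeal.IsMaximal → q.asIdeal ≤ m.asIdeal → f ∉ m.asIdeal →
      (dp M m : WithBot ℕ∞) = (dp M q : WithBot ℕ∞) + topologicalKrullDim ↥(PrimeSpectrum.zeroLocus (q.asIdeal : Set A)) := by
  obtain ⟨R, _, _, _, D, N, π, hπ, hD⟩ := hA
  letI := π.toAlgebra
  letI : Module (MvPolynomial (Fin N) R) M := Module.compHom M π
  haveI : IsScalarTower (MvPolynomial (Fin N) R) A M := IsScalarTower.of_algebraMap_smul fun _ _ => rfl
  haveI : Module.Finite (MvPolynomial (Fin N) R) A :=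
    Module.Finite.of_surjective (Algebra.linearMap (MvPolynomial (Fin N) R) A) hπ
  haveI : Module.Finite (MvPolynomial (Fin N) R) M := Module.Finite.trans A M
  obtain ⟨E, hE, hdim⟩ := exists_dim hD π hπ q
  have h1 := hdim 1 (Ideal.IsPrime.one_notMem q.2)
  rw [PrimeSpectrum.basicOpen_one, TopologicalSpace.Opens.coe_top, Set.inter_univ] at h1
  rw [h1]
  by_cases hq : q ∈ Module.support A M
  swap
  · obtain ⟨_, ⟨f, rfl⟩, hfq, hf⟩ := PrimeSpectrum.isTopologicalBasis_basic_opens.exists_subset_of_mem_open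
      (show q ∈ (Module.support A M)ᶜ from hq) Module.isClosed_support.isOpen_compl
    refine ⟨f, hfq, fun m _ _ hfm => ?_⟩
    rw [dp_eq_top M hq, dp_eq_top M (hf hfm)]
    show ((⊤ : ℕ∞) : WithBot ℕ∞) = ((⊤ : ℕ∞) : WithBot ℕ∞) + ((E : ℕ∞) : WithBot ℕ∞)
    rw [← WithBot.coe_add, top_add]
  obtain ⟨d, e, hd, hht, he⟩ := depth_pd (P := MvPolynomial (Fin N) R) M hπ q hq
  rw [show (q.asIdeal.comap (algebraMap (MvPolynomial (Fin N) R) A)) = q.asIdeal.comap π from rfl] at hht
  rw [hht] at hE
  have hE' : d + e + E = D + N := by exact_mod_cast hE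
  obtain ⟨_, ⟨f, rfl⟩, hfq, hf⟩ := PrimeSpectrum.isTopologicalBasis_basic_opens.exists_subset_of_mem_open
    (show q ∈ PrimeSpectrum.comap π ⁻¹' {p : PrimeSpectrum (MvPolynomial (Fin N) R) |
      GrothLib.Serre.PdLE (Localization.AtPrime p.asIdeal)
        (Localization.AtPrime p.asIdeal ⊗[MvPolynomial (Fin N) R] M) e} from (he e).2 le_rfl)
    ((GrothLib.DR.isOpen_pdLE_locus e M).preimage (PrimeSpectrum.continuous_comap π))
  refine ⟨f, hfq, fun m hm hqm hfm => ?_⟩
  have hqm' : q ≤ m := hqm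
  have hmS : m ∈ Module.support A M := Module.isClosed_support.stableUnderSpecialization
    ((PrimeSpectrum.le_iff_specializes q m).1 hqm') hq
  obtain ⟨d', e', hd', hht', he'⟩ := depth_pd (P := MvPolynomial (Fin N) R) M hπ m hmS
  have h2 : e' ≤ e := (he' e).1 (hf hfm)
  have h3 : e ≤ e' := by
    refine (he e').1 ?_
    have h4 := ((PrimeSpectrum.le_iff_specializes q m).1 hqm').map (PrimeSpectrum.continuous_comap π)
    exact h4.mem_open (GrothLib.DR.isOpen_pdLE_locus e' M) ((he' e').2 le_rfl)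
  haveI := hm
  haveI : (m.asIdeal.comap π).IsMaximal := Ideal.comap_isMaximal_of_surjective π hπ
  rw [show (m.asIdeal.comap (algebraMap (MvPolynomial (Fin N) R) A)) = m.asIdeal.comap π from rfl,
    height_maximal hD (m.asIdeal.comap π), Nat.cast_inj] at hht'
  rw [hd, hd']
  show ((d' : ℕ∞) : WithBot ℕ∞) = ((d : ℕ∞) : WithBot ℕ∞) + ((E : ℕ∞) : WithBot ℕ∞)
  rw [← WithBot.coe_add, ← Nat.cast_add, show d' = d + E by omega]

end GrothLib.RectDepth5
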