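import Groth.Prelude.Def_Coh
import Groth.Prelude.Def_CohB1
import Groth.Agent.Lib.RectDepth5.Ring
import Groth.Agent.Lib.FibPd.RectDepth
import Groth.Agent.Lib.DepthAlong.Stalk
import Groth.Agent.Lib.Chev28.MiracleFinite
import Groth.Agent.Lib.ArtinTate.Space
import Groth.Agent.Lib.Dim.Scheme

/-!
# Rectified depth over Jacobson regular equidimensional bases
-/

set_option autoImplicit false
set_option linter.style.haveILetI false

universe u

open CategoryTheory AlgebraicGeometry Topology TopologicalSpace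

namespace GrothLib.RectDepth5

variable {X S : Scheme.{u}}

theorem exists_base_chart [IsLocallyNoetherian S] [JacobsonSpace S]
    (hreg : ∀ s : S, IsRegularLocalRing ↑(S.presheaf.stalk s))
    (h3 : ∀ S' ∈ irreducibleComponents (S : Type u), ∀ s ∈ S', IsClosed ({s} : Set S) →
      topologicalKrullDim (↥S' : Type u) = topologicalKrullDim ↥{t : S | t ∈ S' ∧ t ⤳ s}) (s : S) :
    ∃ V : S.Opens, IsAffineOpen V ∧ s ∈ V ∧ IsRegularRing Γ(S, V) ∧ IsJacobsonRing Γ(S, V) ∧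
      ∃ D : ℕ, ∀ n : Ideal Γ(S, V), n.IsMaximal → n.height = D := by
  classical
  obtain ⟨_, ⟨V₀, hV₀, rfl⟩, hsV₀, -⟩ :=
    S.isBasis_affineOpens.exists_subset_of_mem_open (Set.mem_univ s) isOpen_univ
  replace hV₀ : IsAffineOpen V₀ := hV₀
  haveI : IsRegularRing Γ(S, V₀) := GrothLib.Chev28.isRegularRing_section hreg hV₀
  let ps := hV₀.primeIdealOf ⟨s, hsV₀⟩
  obtain ⟨p₀, hp₀, hp₀s⟩ := Ideal.exists_minimalPrimes_le (show (⊥ : Ideal Γ(S, V₀)) ≤ ps.asIdeal from bot_le)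
  haveI := hp₀.1.1
  -- the other minimal primes avoid s
  haveI : IsRegularLocalRing (Localization.AtPrime ps.asIdeal) := IsRegularRing.isRegularLocalRing_localization _
  haveI := GrothLib.CMFree.isDomain_of_isRegularLocalRing (Localization.AtPrime ps.asIdeal)
  have huniq : ∀ p ∈ minimalPrimes Γ(S, V₀), p ≤ ps.asIdeal → p = p₀ := by
    intro p hp hps
    haveI := hp.1.1
    let K := RingHom.ker (algebraMap Γ(S, V₀) (Localization.AtPrime ps.asIdeal))
    have hK : ∀ p' : Ideal Γ(S, V₀), p'.IsPrime → p' ≤ ps.asIdeal → K ≤ p' := by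
      intro p' hp' hle x hx
      obtain ⟨t, ht⟩ := (IsLocalization.map_eq_zero_iff ps.asIdeal.primeCompl _ x).1 (RingHom.mem_ker.1 hx)
      exact (hp'.mem_or_mem (show (t : Γ(S, V₀)) * x ∈ p' by rw [ht]; exact zero_mem _)).resolve_left
        fun h => t.2 (hle h)
    have hKp : K.IsPrime := RingHom.ker_isPrime _
    rw [← le_antisymm (hK p inferInstance hps) (hp.2 ⟨hKp, bot_le⟩ (hK p inferInstance hps)),
      le_antisymm (hK p₀ inferInstance hp₀s) (hp₀.2 ⟨hKp, bot_le⟩ (hK p₀ inferInstance hp₀s))]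
  obtain ⟨f, hfs, hf⟩ : ∃ f ∉ ps.asIdeal, ∀ p ∈ minimalPrimes Γ(S, V₀), f ∉ p → p = p₀ := by
    have hfin : (minimalPrimes Γ(S, V₀)).Finite := minimalPrimes.finite_of_isNoetherianRing Γ(S, V₀)
    let T := hfin.toFinset.filter (· ≠ p₀)
    have : ¬ T.inf id ≤ ps.asIdeal := by
      intro hle
      obtain ⟨p, hp, hps⟩ := (Ideal.IsPrime.inf_le' ps.2).1 hle
      obtain ⟨hp1, hp2⟩ := Finset.mem_filter.1 hp
      exact hp2 (huniq p (hfin.mem_toFinset.1 hp1) hps)
    obtain ⟨f, hf1, hf2⟩ := SetLike.not_le_iff_exists.1 this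
    refine ⟨f, hf2, fun p hp hfp => ?_⟩
    by_contra hne
    exact hfp ((Finset.inf_le (s := T) (f := id) (Finset.mem_filter.2 ⟨hfin.mem_toFinset.2 hp, hne⟩)) hf1)
  let V := S.basicOpen f
  have hV : IsAffineOpen V := hV₀.basicOpen f
  have hsV : s ∈ V := by
    have := hV₀.fromSpec_preimage_basicOpen f
    have h1 : ps ∈ hV₀.fromSpec ⁻¹ᵁ S.basicOpen f := by rw [this]; exact hfs
    rw [show (s : S) = hV₀.fromSpec ps from (hV₀.fromSpec_primeIdealOf ⟨s, hsV₀⟩).symm]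
    exact h1
  let η := hV₀.fromSpec ⟨p₀, inferInstance⟩
  have hgen : ∀ t ∈ V, η ⤳ t := by
    intro t ht
    obtain ⟨p, rfl⟩ : t ∈ Set.range hV₀.fromSpec := by
      rw [hV₀.range_fromSpec]; exact S.basicOpen_le f ht
    obtain ⟨p', hp', hp'le⟩ := Ideal.exists_minimalPrimes_le (show (⊥ : Ideal Γ(S, V₀)) ≤ p.asIdeal from bot_le)
    have hfp : f ∉ p.asIdeal := by
      have h1 : p ∈ hV₀.fromSpec ⁻¹ᵁ S.basicOpen f := ht
      rw [hV₀.fromSpec_preimage_basicOpen f] at h1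
      exact h1
    obtain rfl := hf p' hp' fun h => hfp (hp'le h)
    exact ((PrimeSpectrum.le_iff_specializes _ p).1 hp'le).map hV₀.fromSpec.continuous
  have key : ∀ t ∈ V, IsClosed ({t} : Set S) →
      ringKrullDim (S.presheaf.stalk t) = topologicalKrullDim ↥(closure ({η} : Set S)) := by
    intro t ht hcl
    haveI := hreg t
    haveI := GrothLib.CMFree.isDomain_of_isRegularLocalRing (S.presheaf.stalk t)
    obtain ⟨T, hT, htT, hdim⟩ := GrothLib.FibPd.exists_component_dim t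
    obtain ⟨ζ, hζ⟩ := QuasiSober.sober hT.1 (isClosed_of_mem_irreducibleComponents T hT)
    have hζV : ζ ∈ V := (hζ.specializes htT).mem_open V.2 ht
    have hle : T ⊆ closure {η} := by
      intro y hy
      exact specializes_iff_mem_closure.1 ((hgen ζ hζV).trans (hζ.specializes hy))
    have hTeq : T = closure {η} := Set.Subset.antisymm hle (hT.2 isIrreducible_singleton.closure hle)
    rw [← hTeq, h3 T hT t htT hcl, hdim]
  haveI : JacobsonSpace ↥V := JacobsonSpace.of_isOpenEmbedding V.2.isOpenEmbedding_subtypeVal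
  haveI : JacobsonSpace (PrimeSpectrum Γ(S, V)) :=
    JacobsonSpace.of_isOpenEmbedding (hV.fromSpec.isOpenEmbedding : IsOpenEmbedding (hV.fromSpec : PrimeSpectrum Γ(S, V) → S))
  refine ⟨V, hV, hsV, GrothLib.Chev28.isRegularRing_section hreg hV,
    PrimeSpectrum.isJacobsonRing_iff_jacobsonSpace.2 inferInstance, ?_⟩
  -- closed points of V
  have hdimn : ∀ n : Ideal Γ(S, V), n.IsMaximal →
      ((n.height : ℕ∞) : WithBot ℕ∞) = topologicalKrullDim ↥(closure ({η} : Set S)) := by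
    intro n hn
    let p : PrimeSpectrum Γ(S, V) := ⟨n, hn.isPrime⟩
    have hpV : hV.fromSpec p ∈ V := (Set.ext_iff.mp hV.range_fromSpec _).mp ⟨p, rfl⟩
    have hcl : IsClosed ({hV.fromSpec p} : Set S) := by
      refine isClosed_singleton_of_isLocallyClosed_singleton ?_
      rw [← Set.image_singleton]
      exact ((PrimeSpectrum.isClosed_singleton_iff_isMaximal p).2 hn).isLocallyClosed.image
        hV.fromSpec.isOpenEmbedding.isInducing (hV.range_fromSpec ▸ V.2.isLocallyClosed)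
    rw [← key _ hpV hcl]
    letI := S.presheaf.algebra_section_stalk ⟨hV.fromSpec p, hpV⟩
    haveI : IsLocalization.AtPrime (S.presheaf.stalk (hV.fromSpec p)) p.asIdeal := hV.isLocalization_stalk' p hpV
    exact (IsLocalization.AtPrime.ringKrullDim_eq_height p.asIdeal _).symm
  haveI : IsNoetherianRing Γ(S, V) := IsLocallyNoetherian.component_noetherian ⟨V, hV⟩
  haveI : Nonempty ↥V := ⟨⟨s, hsV⟩⟩
  haveI : Nontrivial Γ(S, V) := by
    by_contra h
    haveI := not_nontrivial_iff_subsingleton.1 h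
    exact (hV.primeIdealOf ⟨s, hsV⟩).2.ne_top (Subsingleton.elim _ _)
  obtain ⟨n₀, hn₀⟩ := Ideal.exists_maximal Γ(S, V)
  obtain ⟨D, hD⟩ := ENat.ne_top_iff_exists.1 (Ideal.height_ne_top (I := n₀) hn₀.ne_top)
  refine ⟨D, fun n hn => ?_⟩
  have h := (hdimn n hn).trans (hdimn n₀ hn₀).symm
  rw [WithBot.coe_inj] at h
  rw [h, ← hD]

theorem exists_good [IsLocallyNoetherian S] [JacobsonSpace S]
    (hreg : ∀ s : S, IsRegularLocalRing ↑(S.presheaf.stalk s))
    (h3 : ∀ S' ∈ irreducibleComponents (S : Type u), ∀ s ∈ S', IsClosed ({s} : Set S) →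
      topologicalKrullDim (↥S' : Type u) = topologicalKrullDim ↥{t : S | t ∈ S' ∧ t ⤳ s})
    (g : X ⟶ S) [LocallyOfFiniteType g] (x : X) :
    ∃ W : X.Opens, IsAffineOpen W ∧ x ∈ W ∧ Good Γ(X, W) := by
  obtain ⟨V, hV, hxV, hr, hj, D, hD⟩ := exists_base_chart hreg h3 (g x)
  obtain ⟨_, ⟨W, hW, rfl⟩, hxW, hWV⟩ :=
    X.isBasis_affineOpens.exists_subset_of_mem_open (show x ∈ (g ⁻¹ᵁ V : Set X) from hxV) (g ⁻¹ᵁ V).2
  replace hW : IsAffineOpen W := hW
  have h1 : (g.appLE V W hWV).hom.FiniteType :=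
    HasRingHomProperty.appLE (P := @LocallyOfFiniteType) g inferInstance ⟨V, hV⟩ ⟨W, hW⟩ hWV
  letI := (g.appLE V W hWV).hom.toAlgebra
  obtain ⟨N, π, hπ⟩ := Algebra.FiniteType.iff_quotient_mvPolynomial''.1
    (show Algebra.FiniteType Γ(S, V) Γ(X, W) from h1)
  exact ⟨W, hW, hxW, Γ(S, V), inferInstance, hr, hj, D, N, π.toRingHom, hπ, hD⟩

theorem dim_closure_chart {W : X.Opens} (hW : IsAffineOpen W) (q : PrimeSpectrum Γ(X, W)) (f : Γ(X, W)) :
    topologicalKrullDim ↥(closure ({hW.fromSpec q} : Set X) ∩ (X.basicOpen f : Set X)) =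
      topologicalKrullDim ↥(PrimeSpectrum.zeroLocus (q.asIdeal : Set Γ(X, W)) ∩
        (PrimeSpectrum.basicOpen f : Set (PrimeSpectrum Γ(X, W)))) := by
  let F : PrimeSpectrum Γ(X, W) → X := hW.fromSpec
  have hF : IsEmbedding F := hW.fromSpec.isEmbedding
  have hpre : F ⁻¹' (X.basicOpen f : Set X) = (PrimeSpectrum.basicOpen f : Set (PrimeSpectrum Γ(X, W))) :=
    congrArg (fun U : (Spec Γ(X, W)).Opens => (U : Set (Spec Γ(X, W)))) (hW.fromSpec_preimage_basicOpen f)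
  refine (GrothLib.Dim.IsEmbedding.topologicalKrullDim_eq
    (f := fun w : ↥(PrimeSpectrum.zeroLocus (q.asIdeal : Set Γ(X, W)) ∩
      (PrimeSpectrum.basicOpen f : Set (PrimeSpectrum Γ(X, W)))) => F w.1) (hF.comp IsEmbedding.subtypeVal) ?_).symm
  ext z
  constructor
  · rintro ⟨⟨p, hp1, hp2⟩, rfl⟩
    exact ⟨specializes_iff_mem_closure.1 (((PrimeSpectrum.le_iff_specializes q p).1 hp1).map hW.fromSpec.continuous),
      hpre.ge hp2⟩
  · rintro ⟨hz1, hz2⟩
    obtain ⟨p, rfl⟩ : z ∈ Set.range hW.fromSpec := by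
      rw [hW.range_fromSpec]; exact X.basicOpen_le f hz2
    refine ⟨⟨p, ?_, hpre.le hz2⟩, rfl⟩
    exact (PrimeSpectrum.le_iff_specializes q p).2 (hF.isInducing.specializes_iff.1 (specializes_iff_mem_closure.2 hz1))

theorem dim_closure_inter_open {W : X.Opens} (hW : IsAffineOpen W) (hG : Good Γ(X, W)) (q : PrimeSpectrum Γ(X, W))
    (f : Γ(X, W)) (hf : hW.fromSpec q ∈ X.basicOpen f) :
    topologicalKrullDim ↥(closure ({hW.fromSpec q} : Set X) ∩ (X.basicOpen f : Set X)) =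
      topologicalKrullDim ↥(PrimeSpectrum.zeroLocus (q.asIdeal : Set Γ(X, W))) := by
  obtain ⟨R, _, _, _, D, N, π, hπ, hD⟩ := hG
  obtain ⟨E, -, hE⟩ := exists_dim hD π hπ q
  have hfq : f ∉ q.asIdeal := by
    have h1 : q ∈ hW.fromSpec ⁻¹ᵁ X.basicOpen f := hf
    rw [hW.fromSpec_preimage_basicOpen f] at h1
    exact h1
  have h1 := hE 1 (Ideal.IsPrime.one_notMem q.2)
  rw [PrimeSpectrum.basicOpen_one, Opens.coe_top, Set.inter_univ] at h1
  rw [dim_closure_chart, hE f hfq, h1]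

theorem dim_closure_eq (hgood : ∀ x : X, ∃ W : X.Opens, IsAffineOpen W ∧ x ∈ W ∧ Good Γ(X, W))
    {W : X.Opens} (hW : IsAffineOpen W) (hG : Good Γ(X, W)) (q : PrimeSpectrum Γ(X, W)) :
    topologicalKrullDim ↥(closure ({hW.fromSpec q} : Set X)) =
      topologicalKrullDim ↥(PrimeSpectrum.zeroLocus (q.asIdeal : Set Γ(X, W))) := by
  have hxW : hW.fromSpec q ∈ W := (Set.ext_iff.mp hW.range_fromSpec _).mp ⟨q, rfl⟩
  have h1 := dim_closure_inter_open hW hG q 1 (by rwa [X.basicOpen_of_isUnit isUnit_one])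
  rw [X.basicOpen_of_isUnit isUnit_one] at h1
  refine le_antisymm ?_ (h1 ▸ (IsEmbedding.inclusion Set.inter_subset_left).isInducing.topologicalKrullDim_le)
  refine GrothLib.Dim.topologicalKrullDim_le_of_cover
    (ι := {W' : X.Opens // IsAffineOpen W' ∧ Good Γ(X, W')})
    (fun W' => ⟨Subtype.val ⁻¹' (W'.1 : Set X), W'.1.2.preimage continuous_subtype_val⟩) ?_ ?_
  · intro z
    obtain ⟨W', h1, h2, h3⟩ := hgood z.1
    exact ⟨⟨W', h1, h3⟩, h2⟩
  · rintro ⟨W', hW', hG'⟩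
    by_cases hne : (closure ({hW.fromSpec q} : Set X) ∩ (W' : Set X)).Nonempty
    swap
    · haveI : IsEmpty (IrreducibleCloseds ↥(Subtype.val ⁻¹' (W' : Set X) : Set ↥(closure ({hW.fromSpec q} : Set X)))) :=
        ⟨fun Z => by
          obtain ⟨w, -⟩ := Z.isIrreducible.nonempty
          exact hne ⟨w.1.1, w.1.2, w.2⟩⟩
      exact le_of_eq_of_le Order.krullDim_eq_bot bot_le
    obtain ⟨z, hz1, hz2⟩ := hne
    have hxW' : hW.fromSpec q ∈ W' := (specializes_iff_mem_closure.2 hz1).mem_open W'.2 hz2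
    obtain ⟨f, f', hff, hxf⟩ := exists_basicOpen_le_affine_inter hW hW' (hW.fromSpec q) ⟨hxW, hxW'⟩
    obtain ⟨q', hq'⟩ : hW.fromSpec q ∈ Set.range hW'.fromSpec := by rw [hW'.range_fromSpec]; exact hxW'
    have h2 := dim_closure_inter_open hW hG q f hxf
    rw [hff, ← hq', dim_closure_inter_open hW' hG' q' f' (hq' ▸ hff ▸ hxf)] at h2
    have h3 := dim_closure_inter_open hW' hG' q' 1 (by rw [X.basicOpen_of_isUnit isUnit_one, hq']; exact hxW')
    rw [hq', X.basicOpen_of_isUnit isUnit_one, h2] at h3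
    refine le_of_eq (Eq.trans ?_ h3)
    exact GrothLib.Dim.IsEmbedding.topologicalKrullDim_eq
      (f := fun w : ↥(Subtype.val ⁻¹' (W' : Set X) : Set ↥(closure ({hW.fromSpec q} : Set X))) => (w.1.1 : X))
      (IsEmbedding.subtypeVal.comp IsEmbedding.subtypeVal) (by
        ext y
        constructor
        · rintro ⟨w, rfl⟩; exact ⟨w.1.2, w.2⟩
        · rintro ⟨ha, hb⟩; exact ⟨⟨⟨y, ha⟩, hb⟩, rfl⟩)

/-- The rectified depth of a module at a point. -/
noncomputable abbrev rd (F : X.Modules) (x : X) : WithBot ℕ∞ :=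
  ((LocCoh.depth ↑(X.presheaf.stalk x) ↑(F.presheaf.stalk x) : ℕ∞) : WithBot ℕ∞) +
    topologicalKrullDim ↥(closure ({x} : Set X))

variable (F : X.Modules)

theorem rd_eq (hgood : ∀ x : X, ∃ W : X.Opens, IsAffineOpen W ∧ x ∈ W ∧ Good Γ(X, W)) [F.IsQuasicoherent]
    {W : X.Opens} (hW : IsAffineOpen W) (hG : Good Γ(X, W)) (q : PrimeSpectrum Γ(X, W)) :
    rd F (hW.fromSpec q) = (dp Γ(F, W) q : WithBot ℕ∞) +
      topologicalKrullDim ↥(PrimeSpectrum.zeroLocus (q.asIdeal : Set Γ(X, W))) := by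
  rw [rd, dim_closure_eq hgood hW hG q, GrothLib.DepthAlong.depth_fromSpec hW F q]

theorem isOpen_le_rd (hgood : ∀ x : X, ∃ W : X.Opens, IsAffineOpen W ∧ x ∈ W ∧ Good Γ(X, W))
    (hF : Coh.IsCoh F) (n : ℕ) : IsOpen {x : X | (n : WithBot ℕ∞) ≤ rd F x} := by
  haveI := hF.1
  refine isOpen_iff_forall_mem_open.2 fun x hx => ?_
  obtain ⟨W, hW, hxW, hG⟩ := hgood x
  haveI := GrothLib.QCoh.moduleFinite_of_isFiniteType F hF.2 hW
  obtain ⟨q, rfl⟩ : x ∈ Set.range hW.fromSpec := by rw [hW.range_fromSpec]; exact hxW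
  refine ⟨hW.fromSpec '' {q : PrimeSpectrum Γ(X, W) | (n : WithBot ℕ∞) ≤ (dp Γ(F, W) q : WithBot ℕ∞) +
      topologicalKrullDim ↥(PrimeSpectrum.zeroLocus (q.asIdeal : Set Γ(X, W)))}, ?_,
    hW.fromSpec.isOpenEmbedding.isOpenMap _ (isOpen_le_dp_add_dim Γ(F, W) hG n), ⟨q, ?_, rfl⟩⟩
  · rintro _ ⟨p, hp, rfl⟩
    show (n : WithBot ℕ∞) ≤ rd F (hW.fromSpec p)
    rw [rd_eq F hgood hW hG p]
    exact hp
  · show (n : WithBot ℕ∞) ≤ _
    rw [← rd_eq F hgood hW hG q]
    exact hx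

theorem exists_nhd_depth_closed (hgood : ∀ x : X, ∃ W : X.Opens, IsAffineOpen W ∧ x ∈ W ∧ Good Γ(X, W))
    (hF : Coh.IsCoh F) (x : X) :
    ∃ U : X.Opens, x ∈ U ∧ ∀ z ∈ U, z ∈ closure ({x} : Set X) → IsClosed ({z} : Set X) →
      ((LocCoh.depth ↑(X.presheaf.stalk z) ↑(F.presheaf.stalk z) : ℕ∞) : WithBot ℕ∞) = rd F x := by
  haveI := hF.1
  obtain ⟨W, hW, hxW, hG⟩ := hgood x
  haveI := GrothLib.QCoh.moduleFinite_of_isFiniteType F hF.2 hW
  obtain ⟨q, rfl⟩ : x ∈ Set.range hW.fromSpec := by rw [hW.range_fromSpec]; exact hxW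
  obtain ⟨f, hfq, hf⟩ := exists_dp_maximal_eq Γ(F, W) hG q
  refine ⟨X.basicOpen f, ?_, fun z hzf hzx hz => ?_⟩
  · show q ∈ hW.fromSpec ⁻¹ᵁ X.basicOpen f
    rw [hW.fromSpec_preimage_basicOpen f]
    exact hfq
  obtain ⟨m, rfl⟩ : z ∈ Set.range hW.fromSpec := by rw [hW.range_fromSpec]; exact X.basicOpen_le f hzf
  have hfm : f ∉ m.asIdeal := by
    have h1 : m ∈ hW.fromSpec ⁻¹ᵁ X.basicOpen f := hzf
    rw [hW.fromSpec_preimage_basicOpen f] at h1
    exact h1
  have hm : m.asIdeal.IsMaximal := by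
    rw [← PrimeSpectrum.isClosed_singleton_iff_isMaximal]
    have h := hz.preimage hW.fromSpec.continuous
    rwa [← Set.image_singleton, Set.preimage_image_eq _ hW.fromSpec.isOpenEmbedding.injective] at h
  have hqm : q.asIdeal ≤ m.asIdeal := (PrimeSpectrum.le_iff_specializes q m).2
    (hW.fromSpec.isOpenEmbedding.isInducing.specializes_iff.1 (specializes_iff_mem_closure.2 hzx))
  rw [rd_eq F hgood hW hG q, GrothLib.DepthAlong.depth_fromSpec hW F m]
  exact hf m hm hqm hfm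

theorem rd_characterization [JacobsonSpace X]
    (hgood : ∀ x : X, ∃ W : X.Opens, IsAffineOpen W ∧ x ∈ W ∧ Good Γ(X, W)) (hF : Coh.IsCoh F) (x : X) (n : ℕ∞) :
    (∃ U : X.Opens, x ∈ U ∧ ∀ x' : ↥U, (x' : X) ∈ closure ({x} : Set X) → IsClosed ({x'} : Set ↥U) →
        LocCoh.depth ↑(X.presheaf.stalk (x' : X)) ↑(F.presheaf.stalk (x' : X)) = n) ↔
      ((n : WithBot ℕ∞) = rd F x) := by
  obtain ⟨U₀, hxU₀, h₀⟩ := exists_nhd_depth_closed F hgood hF x
  constructor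
  · rintro ⟨U, hxU, hU⟩
    obtain ⟨z, ⟨⟨hzU, hzU₀⟩, hzx⟩, hzc⟩ := nonempty_inter_closedPoints
      (Z := ((U : Set X) ∩ (U₀ : Set X)) ∩ closure ({x} : Set X)) ⟨x, ⟨hxU, hxU₀⟩, subset_closure rfl⟩
      ((U.2.inter U₀.2).isLocallyClosed.inter isClosed_closure.isLocallyClosed)
    have hzc' : IsClosed ({z} : Set X) := hzc
    have h1 : IsClosed ({⟨z, hzU⟩} : Set ↥U) := by
      have h := hzc'.preimage (f := (Subtype.val : ↥U → X)) continuous_subtype_val
      rwa [show (Subtype.val : ↥U → X) ⁻¹' {z} = {⟨z, hzU⟩} from Set.ext fun w => by simp [Subtype.ext_iff]] at h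
    rw [← h₀ z hzU₀ hzx hzc', hU ⟨z, hzU⟩ hzx h1]
  · intro hn
    refine ⟨U₀, hxU₀, fun x' hx' hc => ?_⟩
    have hc' : IsClosed ({(x' : X)} : Set X) := by
      refine isClosed_singleton_of_isLocallyClosed_singleton ?_
      rw [← Set.image_singleton]
      exact hc.isLocallyClosed.image IsEmbedding.subtypeVal.isInducing
        (by rw [Subtype.range_coe]; exact U₀.2.isLocallyClosed)
    have := h₀ x'.1 x'.2 hx' hc'
    rw [← hn, WithBot.coe_inj] at this
    exact this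

end GrothLib.RectDepth5
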